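import Groth.Agent.Sga7.H810.FieldH

/-!
# Classes on `C_Ω` come from finite subextensions
-/

set_option autoImplicit false
universe u
open CategoryTheory CategoryTheory.Limits CategoryTheory.Abelian AlgebraicGeometry Opposite

namespace Groth.Agent.Sga7.H810.FieldLim

open Groth.Agent.EtpbcB.HRel Groth.Agent.EtpbcB.HLim Groth.Agent.Etcore.PullCoh
open Groth.Agent.Etcore Groth.Agent.Etcore.FGLim
open FieldH

variable {K : Type u} [Field K] {C : Scheme.{u}} (f : C ⟶ Spec (CommRingCat.of K))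
  (F : EtCoh.Ab C) (q : ℕ) (Ω : Type u) [CommRing Ω] [Algebra K Ω]

/-- Structure maps of the system of finitely generated subalgebras. -/
noncomputable def τ (a : (FGSub K Ω)ᵒᵖ) :
    (PullbackLim.specSys (fgSys K Ω)).obj a ⟶ Spec (CommRingCat.of K) :=
  str K a.unop.1

theorem hτ ⦃a b : (FGSub K Ω)ᵒᵖ⦄ (h : a ⟶ b) :
    (PullbackLim.specSys (fgSys K Ω)).map h ≫ τ Ω b = τ Ω a := by
  exact (Spec.map_comp _ _).symm

theorem ht (a : (FGSub K Ω)ᵒᵖ) :
    (PullbackLim.specCone (fgSys K Ω) (fgCocone K Ω)).π.app a ≫ τ Ω a = str K Ω := by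
  exact (Spec.map_comp _ _).symm

/-- Every class comes from a finitely generated subalgebra. -/
theorem exists_of_fg [QuasiCompact f] [QuasiSeparated f] (x : HE f F q Ω) :
    ∃ (B : Subalgebra K Ω) (_ : B.FG) (y : HE f F q B), hm f F q B.val y = x := by
  obtain ⟨B, -, η, h⟩ := exists_class (PullbackLim.specSys (fgSys K Ω)) (τ Ω) (hτ Ω) f
    (fun _ _ h => PullbackLim.isAffineHom_specSys (fgSys K Ω) h)
    (fun a => by have := PullbackLim.isAffine_specSys (fgSys K Ω) a; infer_instance)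
    (fun a => by have := PullbackLim.isAffine_specSys (fgSys K Ω) a; infer_instance)
    (PullbackLim.specCone (fgSys K Ω) (fgCocone K Ω))
    (str K Ω) (ht Ω)
    (PullbackLim.isLimitSpecCone _ _ (isColimitFG K Ω)) F q ⊥ x
  refine ⟨B.1, B.2, η, ?_⟩
  have e : bm f B.1.val = PullbackLim.proj (PullbackLim.specSys (fgSys K Ω)) (τ Ω) f
      (PullbackLim.specCone (fgSys K Ω) (fgCocone K Ω)) (str K Ω) (ht Ω) (op B) := by
    apply pullback.hom_ext
    · exact (bm_fst f B.1.val).trans (PullbackLim.proj_fst _ (τ Ω) f _ _ (ht Ω) (op B)).symm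
    · exact (bm_snd f B.1.val).trans (PullbackLim.proj_snd _ (τ Ω) f _ _ (ht Ω) (op B)).symm
  have key : ∀ (m : pullback f (str K Ω) ⟶ pullback f (str K B.1)) (_ : m =
      PullbackLim.proj (PullbackLim.specSys (fgSys K Ω)) (τ Ω) f
      (PullbackLim.specCone (fgSys K Ω) (fgCocone K Ω)) (str K Ω) (ht Ω) (op B))
      (w : m ≫ toC f B.1 = toC f Ω),
      EtCore.HpullVia m (toC f B.1) (toC f Ω) w F q η = x := by
    rintro m rfl w
    exact h
  exact key _ e _

/-- Every class comes from a finite subextension if `Ω / K` is algebraic. -/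
theorem exists_of_finite (Ω : Type u) [Field Ω] [Algebra K Ω] [Algebra.IsAlgebraic K Ω]
    [QuasiCompact f] [QuasiSeparated f] (x : HE f F q Ω) :
    ∃ (L : IntermediateField K Ω) (_ : FiniteDimensional K L) (y : HE f F q L),
      hm f F q L.val y = x := by
  obtain ⟨B, hB, y, hy⟩ := exists_of_fg f F q Ω x
  obtain ⟨L, hL, hBL⟩ := Groth.Agent.Vancyc.H684.GalCont.exists_finite_of_fg B hB
  refine ⟨L, hL, hm f F q (Subalgebra.inclusion hBL) y, ?_⟩
  rw [hm_comp]
  exact hy

end Groth.Agent.Sga7.H810.FieldLim
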