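import Groth.Agent.Sga7.H810.FieldNorm
import Groth.Agent.Sga7.H810.FieldLim
import Mathlib.FieldTheory.Galois.GaloisClosure

/-!
# Descent of invariant classes along extensions of degree prime to the torsion
-/

set_option autoImplicit false
universe u
open CategoryTheory CategoryTheory.Limits CategoryTheory.Abelian AlgebraicGeometry Opposite

namespace Groth.Agent.Sga7.H810.Avg

open FieldH

/-- If `m • x = 0`, `d` is prime to `m` and `d • x` is in the image then so is `x`. -/
theorem exists_of_nsmul {A B : Type*} [AddCommGroup A] [AddCommGroup B] (φ : A →+ B) (d m : ℕ)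
    (hdm : d.Coprime m) (x : B) (hx : m • x = 0) (t : A) (ht : φ t = d • x) : ∃ t' : A, φ t' = x := by
  have h := Nat.isCoprime_iff_coprime.2 hdm
  obtain ⟨a, b, hab⟩ := h
  refine ⟨a • t, ?_⟩
  rw [map_zsmul, ht]
  have h1 : ((m : ℤ)) • x = 0 := by rw [natCast_zsmul]; exact hx
  calc a • d • x = (a * d + b * m) • x := by
        rw [add_smul, mul_smul, mul_smul, h1, smul_zero, add_zero, natCast_zsmul]
    _ = x := by rw [hab, one_smul]

variable {K : Type u} [Field K] {C : Scheme.{u}} (f : C ⟶ Spec (CommRingCat.of K))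
  (F : EtCoh.Ab C) (q : ℕ) {Ω : Type u} [Field Ω] [Algebra K Ω] [IsGalois K Ω]
  [QuasiCompact f] [QuasiSeparated f]

theorem exists_descend (L : IntermediateField K Ω) (m : ℕ) (x : HE f F q Ω) (hmx : m • x = 0)
    (hcop : ∀ (M : IntermediateField L Ω) [FiniteDimensional L M],
      (Module.finrank L M).Coprime m)
    (hfix : ∀ σ : Ω ≃ₐ[K] Ω, σ ∈ L.fixingSubgroup → hm f F q (σ : Ω →ₐ[K] Ω) x = x) :
    ∃ t : HE f F q L, hm f F q L.val t = x := by
  classical
  obtain ⟨E, hE, e, rfl⟩ := FieldLim.exists_of_finite f F q Ω x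
  obtain ⟨S, hS⟩ : ∃ S : Finset Ω, IntermediateField.adjoin K (S : Set Ω) = E := by
    have h1 : E.FG := E.fg_of_fg_toSubalgebra (Subalgebra.fg_of_fg_toSubmodule
      (Module.Finite.iff_fg.1 (inferInstanceAs (Module.Finite K E))))
    exact h1
  have hgal : IsGalois L Ω := inferInstance
  let M' : FiniteGaloisIntermediateField L Ω := FiniteGaloisIntermediateField.adjoin L (S : Set Ω)
  let M : IntermediateField L Ω := M'.toIntermediateField
  have hEM : ∀ z : Ω, z ∈ E → z ∈ M := by
    intro z hz
    have h1 : E ≤ M.restrictScalars K := by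
      rw [← hS, IntermediateField.adjoin_le_iff]
      exact FiniteGaloisIntermediateField.subset_adjoin L (S : Set Ω)
    exact h1 hz
  let j : E →ₐ[K] M :=
    { toFun := fun z => ⟨z, hEM z z.2⟩
      map_one' := rfl
      map_mul' := fun _ _ => rfl
      map_zero' := rfl
      map_add' := fun _ _ => rfl
      commutes' := fun _ => rfl }
  let v : M →ₐ[K] Ω := M.val.restrictScalars K
  have hv : hm f F q v (hm f F q j e) = hm f F q E.val e := by
    rw [hm_comp]
    rfl
  obtain ⟨t, ht⟩ := FieldNorm.exists_norm (K := K) (L := L) (L' := M) f F q (hm f F q j e)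
  refine exists_of_nsmul (hm f F q L.val) (Module.finrank L M) m (hcop M) _ hmx t ?_
  have h1 : hm f F q v (hm f F q (FieldNorm.can K L M) t) = hm f F q L.val t := by
    rw [hm_comp]
    rfl
  rw [← h1, ht, map_sum]
  have h2 : ∀ g : M ≃ₐ[L] M, hm f F q v (hm f F q (FieldNorm.au (K := K) g) (hm f F q j e)) =
      hm f F q E.val e := by
    intro g
    let g' : Ω ≃ₐ[L] Ω := AlgEquiv.liftNormal g Ω
    have hg' : ∀ z : M, g' (z : Ω) = ((g z : M) : Ω) := fun z => AlgEquiv.liftNormal_commutes g Ω z
    have h3 := hfix (g'.restrictScalars K) (by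
      rw [IntermediateField.mem_fixingSubgroup_iff]
      intro z hz
      exact g'.commutes ⟨z, hz⟩)
    rw [← hv] at h3
    rw [← hv, ← h3, hm_comp, hm_comp, hm_comp, hm_comp]
    congr 2
    ext z
    exact (hg' (j z)).symm
  rw [Finset.sum_congr rfl fun g _ => h2 g, Finset.sum_const, Finset.card_univ]
  congr 1
  rw [← Nat.card_eq_fintype_card]
  exact IsGalois.card_aut_eq_finrank L M

end Groth.Agent.Sga7.H810.Avg
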