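import Groth.Agent.Etcore.LocMap
import Groth.Agent.EtpbcB.HRel

/-!
# Comparison of `EtCore.HpullVia` with its fast form `HPV` (slow in the kernel)
-/

set_option autoImplicit false
universe u
open CategoryTheory CategoryTheory.Limits CategoryTheory.Abelian AlgebraicGeometry Opposite

namespace Groth.Agent.Sga7.H810.Convert

open Groth.Agent.Etcore.LocSec Groth.Agent.Etcore.ZU Groth.Agent.Etcore.ExtAdj
open Groth.Agent.Etcore.Loc Groth.Agent.Etcore.LocEt Groth.Agent.Etcore.LocMap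
open Groth.Agent.EtpbcB.HRel

theorem HPV_eq_HpullVia {X Y Z : Scheme.{u}} (f : X ⟶ Y) (t : Y ⟶ Z) (f₀ : X ⟶ Z)
    (w : f ≫ t = f₀) (G : EtCoh.Ab Z) (n : ℕ) (x : EtCoh.H Y ((EtCoh.pull t).obj G) n) :
    EtCore.HpullVia f t f₀ w G n x = HPV f t w G n x := by
  rw [HPV_apply, HpullVia_eq, HP, extPull_apply, ← pullConst_inv]
  rfl

end Groth.Agent.Sga7.H810.Convert
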