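import Groth.Agent.EtpbcB.HLim
import Groth.Agent.Vancyc.H684.GalCont
import Groth.Prelude.Def_SGA7I

/-!
# Cohomology of the base changes of a scheme over a field

`f : C ⟶ Spec K`, `F` a sheaf on `C`. For an extension `E` of `K` let `HE f F q E = H^q(C_E, F)`, and for
`φ : E →ₐ[K] E'` let `hm f F q φ : HE E →+ HE E'` be the pullback map.

* `hm_comp`, `hm_id`: functoriality;
* `exists_of_fg`: classes on `C_Ω` come from a finitely generated subalgebra (`f` quasi-compact and
  quasi-separated), hence (`exists_of_finite`) from a finite subextension if `Ω / K` is algebraic.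
-/

set_option autoImplicit false
universe u
open CategoryTheory CategoryTheory.Limits CategoryTheory.Abelian AlgebraicGeometry Opposite

namespace Groth.Agent.Sga7.H810.FieldH

open Groth.Agent.EtpbcB.HRel Groth.Agent.EtpbcB.HLim Groth.Agent.Etcore.PullCoh

section

variable {K : Type u} [Field K]

/-- `Spec E ⟶ Spec K`. -/
noncomputable abbrev str (K : Type u) [Field K] (E : Type u) [CommRing E] [Algebra K E] :
    Spec (CommRingCat.of E) ⟶ Spec (CommRingCat.of K) :=
  Spec.map (CommRingCat.ofHom (algebraMap K E))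

theorem spec_comp_str {E E' : Type u} [CommRing E] [Algebra K E] [CommRing E'] [Algebra K E']
    (φ : E →ₐ[K] E') : Spec.map (CommRingCat.ofHom (φ : E →+* E')) ≫ str K E = str K E' := by
  rw [← Spec.map_comp, ← CommRingCat.ofHom_comp]
  congr 2
  ext r
  exact φ.commutes r

variable {C : Scheme.{u}} (f : C ⟶ Spec (CommRingCat.of K))

/-- `C_E ⟶ C`. -/
noncomputable abbrev toC (E : Type u) [CommRing E] [Algebra K E] : pullback f (str K E) ⟶ C :=
  pullback.fst f (str K E)

/-- The morphism `C_{E'} ⟶ C_E`. -/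
noncomputable def bm {E E' : Type u} [CommRing E] [Algebra K E] [CommRing E'] [Algebra K E']
    (φ : E →ₐ[K] E') : pullback f (str K E') ⟶ pullback f (str K E) :=
  pullback.map f (str K E') f (str K E) (𝟙 C) (Spec.map (CommRingCat.ofHom (φ : E →+* E'))) (𝟙 _)
    (by simp) (by rw [Category.comp_id, spec_comp_str])

theorem bm_fst {E E' : Type u} [CommRing E] [Algebra K E] [CommRing E'] [Algebra K E']
    (φ : E →ₐ[K] E') : bm f φ ≫ toC f E = toC f E' := by
  simp only [bm, pullback.map, pullback.lift_fst, Category.comp_id]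

theorem bm_snd {E E' : Type u} [CommRing E] [Algebra K E] [CommRing E'] [Algebra K E']
    (φ : E →ₐ[K] E') : bm f φ ≫ pullback.snd f (str K E) =
      pullback.snd f (str K E') ≫ Spec.map (CommRingCat.ofHom (φ : E →+* E')) := by
  simp only [bm, pullback.map, pullback.lift_snd]

theorem bm_comp {E E' E'' : Type u} [CommRing E] [Algebra K E] [CommRing E'] [Algebra K E']
    [CommRing E''] [Algebra K E''] (φ : E →ₐ[K] E') (ψ : E' →ₐ[K] E'') :
    bm f ψ ≫ bm f φ = bm f (ψ.comp φ) := by
  apply pullback.hom_ext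
  · rw [Category.assoc]
    exact (congrArg (fun k => bm f ψ ≫ k) (bm_fst f φ)).trans ((bm_fst f ψ).trans
      (bm_fst f (ψ.comp φ)).symm)
  · rw [Category.assoc, bm_snd, ← Category.assoc, bm_snd, Category.assoc, bm_snd, ← Spec.map_comp]
    rfl

theorem bm_id (E : Type u) [CommRing E] [Algebra K E] : bm f (AlgHom.id K E) = 𝟙 _ := by
  apply pullback.hom_ext
  · rw [Category.id_comp]
    exact bm_fst f _
  · rw [bm_snd, Category.id_comp]
    have : (CommRingCat.ofHom ((AlgHom.id K E : E →ₐ[K] E) : E →+* E)) = 𝟙 _ := rfl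
    rw [this, Spec.map_id]
    exact Category.comp_id _

variable (F : EtCoh.Ab C) (q : ℕ)

/-- `H^q(C_E, F)`. -/
abbrev HE (E : Type u) [CommRing E] [Algebra K E] : Type (u + 1) :=
  EtCoh.H (pullback f (str K E)) ((EtCoh.pull (toC f E)).obj F) q

/-- The pullback map. -/
noncomputable def hm {E E' : Type u} [CommRing E] [Algebra K E] [CommRing E'] [Algebra K E']
    (φ : E →ₐ[K] E') : HE f F q E →+ HE f F q E' :=
  EtCore.HpullVia (bm f φ) (toC f E) (toC f E') (bm_fst f φ) F q

theorem hm_comp {E E' E'' : Type u} [CommRing E] [Algebra K E] [CommRing E'] [Algebra K E']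
    [CommRing E''] [Algebra K E''] (φ : E →ₐ[K] E') (ψ : E' →ₐ[K] E'') (x : HE f F q E) :
    hm f F q ψ (hm f F q φ x) = hm f F q (ψ.comp φ) x :=
  HpullVia_comp (bm f ψ) (bm f φ) (bm f (ψ.comp φ)) (toC f E'') (toC f E') (toC f E)
    (bm_comp f φ ψ) (bm_fst f ψ) (bm_fst f φ) (bm_fst f (ψ.comp φ)) F q x

theorem hm_id (E : Type u) [CommRing E] [Algebra K E] (x : HE f F q E) :
    hm f F q (AlgHom.id K E) x = x := by
  have key : ∀ (e : pullback f (str K E) ⟶ pullback f (str K E)) (he : e = 𝟙 _)
      (w : e ≫ toC f E = toC f E),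
      EtCore.HpullVia e (toC f E) (toC f E) w F q x = x := by
    rintro e rfl w
    exact HpullVia_id _ _ _ _ _
  exact key _ (bm_id f E) _

end

end Groth.Agent.Sga7.H810.FieldH
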