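import Mathlib.FieldTheory.Galois.Basic
import Mathlib.FieldTheory.PrimitiveElement
import Mathlib.AlgebraicGeometry.AffineScheme
import Mathlib.AlgebraicGeometry.ResidueField

/-!
# Two morphisms to the spectrum of a finite Galois extension differ locally by the Galois group

`exists_open_graph`: `L'/L` finite Galois, `q₁, q₂ : W ⟶ Spec L'` with the same composite to `Spec L`;
every point of `W` has an open neighbourhood on which `q₂ = q₁ ≫ Spec g` for some `g ∈ Gal(L'/L)`.
-/

set_option autoImplicit false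

universe u

open CategoryTheory CategoryTheory.Limits AlgebraicGeometry

namespace Groth.Agent.Sga7.H810.GalGraph

section Alg

set_option linter.unusedSectionVars false

variable {L M : Type*} [Field L] [Field M] [Algebra L M] [FiniteDimensional L M] [IsGalois L M]

/-- Two ring homomorphisms from a Galois extension to a field which agree on the base differ by an
automorphism. -/
theorem exists_comp_eq {N : Type*} [Field N] (ψ₁ ψ₂ : M →+* N)
    (h : ψ₁.comp (algebraMap L M) = ψ₂.comp (algebraMap L M)) :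
    ∃ g : M ≃ₐ[L] M, ψ₁.comp (g : M →+* M) = ψ₂ := by
  let _ : Algebra M N := ψ₁.toAlgebra
  let _ : Algebra L N := (ψ₁.comp (algebraMap L M)).toAlgebra
  have : IsScalarTower L M N := IsScalarTower.of_algebraMap_eq fun _ => rfl
  let φ₂ : M →ₐ[L] N := { ψ₂ with commutes' := fun r => (DFunLike.congr_fun h r).symm }
  refine ⟨Normal.algHomEquivAut L N M φ₂, ?_⟩
  have h2 := (Normal.algHomEquivAut L N M).symm_apply_apply φ₂
  ext x
  exact DFunLike.congr_fun h2 x

/-- Ring homomorphisms to any ring, agreeing on the base and on a primitive element, are equal. -/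
theorem hom_ext_of_primitive {A : Type*} [CommRing A] (φ₁ φ₂ : M →+* A)
    (h : φ₁.comp (algebraMap L M) = φ₂.comp (algebraMap L M)) (θ : M)
    (hθ : IntermediateField.adjoin L {θ} = ⊤) (h2 : φ₁ θ = φ₂ θ) : φ₁ = φ₂ := by
  let _ : Algebra L A := (φ₁.comp (algebraMap L M)).toAlgebra
  let f₁ : M →ₐ[L] A := { φ₁ with commutes' := fun r => rfl }
  let f₂ : M →ₐ[L] A := { φ₂ with commutes' := fun r => (DFunLike.congr_fun h r).symm }
  have h3 : (AlgHom.equalizer f₁ f₂) = ⊤ := by
    rw [eq_top_iff]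
    have h4 : Algebra.adjoin L {θ} = ⊤ := by
      rw [← IntermediateField.adjoin_simple_toSubalgebra_of_isAlgebraic
        (Algebra.IsAlgebraic.isAlgebraic θ), hθ]
      rfl
    rw [← h4, Algebra.adjoin_le_iff, Set.singleton_subset_iff]
    exact h2
  ext x
  have : x ∈ AlgHom.equalizer f₁ f₂ := by rw [h3]; trivial
  exact this

/-- The key product vanishes. -/
theorem prod_eq_zero {A : Type*} [CommRing A] (φ₁ φ₂ : M →+* A)
    (h : φ₁.comp (algebraMap L M) = φ₂.comp (algebraMap L M)) (θ : M) :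
    ∏ g : M ≃ₐ[L] M, (φ₂ θ - φ₁ (g θ)) = 0 := by
  classical
  let _ : Algebra L A := (φ₁.comp (algebraMap L M)).toAlgebra
  -- the characteristic polynomial `∏ (X - g θ)` has coefficients in `L`
  have h1 : ∃ P : Polynomial L, P.map (algebraMap L M) =
      ∏ g : M ≃ₐ[L] M, (Polynomial.X - Polynomial.C (g θ)) := by
    have h2 : ∏ g : M ≃ₐ[L] M, (Polynomial.X - Polynomial.C (g θ)) ∈
        Polynomial.lifts (algebraMap L M) := by
      rw [Polynomial.lifts_iff_coeff_lifts]
      intro n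
      rw [← IntermediateField.mem_bot, IsGalois.mem_bot_iff_fixed]
      intro σ
      have h3 : (∏ g : M ≃ₐ[L] M, (Polynomial.X - Polynomial.C (g θ))).map (σ : M →+* M) =
          ∏ g : M ≃ₐ[L] M, (Polynomial.X - Polynomial.C (g θ)) := by
        rw [Polynomial.map_prod]
        simp only [Polynomial.map_sub, Polynomial.map_X, Polynomial.map_C]
        exact Fintype.prod_bijective (fun g => σ * g) (Group.mulLeft_bijective σ) _ _
          (fun g => rfl)
      conv_rhs => rw [← h3]
      rw [Polynomial.coeff_map]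
      rfl
    obtain ⟨P, hP⟩ := (Polynomial.mem_lifts _).1 h2
    exact ⟨P, hP⟩
  obtain ⟨P, hP⟩ := h1
  have h4 : (P.map (algebraMap L M)).eval₂ φ₂ (φ₂ θ) = 0 := by
    rw [hP, Polynomial.eval₂_hom, Polynomial.eval_prod]
    rw [Finset.prod_eq_zero (Finset.mem_univ 1), map_zero]
    simp
  have h5 : (P.map (algebraMap L M)).eval₂ φ₁ (φ₂ θ) = 0 := by
    rw [Polynomial.eval₂_map] at h4 ⊢
    rw [h]
    exact h4
  rw [hP, Polynomial.eval₂_finsetProd] at h5
  simpa using h5

end Alg

section Geom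

variable {L M : Type u} [Field L] [Field M] [Algebra L M] [FiniteDimensional L M] [IsGalois L M]

theorem exists_open_graph {W : Scheme.{u}} (q₁ q₂ : W ⟶ Spec (CommRingCat.of M))
    (h : q₁ ≫ Spec.map (CommRingCat.ofHom (algebraMap L M)) =
      q₂ ≫ Spec.map (CommRingCat.ofHom (algebraMap L M))) (x : W) :
    ∃ (U : W.Opens) (_ : x ∈ U) (g : M ≃ₐ[L] M),
      U.ι ≫ q₂ = U.ι ≫ q₁ ≫ Spec.map (CommRingCat.ofHom (g : M →+* M)) := by
  classical
  -- the ring homomorphisms
  let γ := (Scheme.ΓSpecIso (CommRingCat.of M)).inv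
  let φ₁ : M →+* Γ(W, ⊤) := (γ ≫ q₁.appTop).hom
  let φ₂ : M →+* Γ(W, ⊤) := (γ ≫ q₂.appTop).hom
  have hφ : φ₁.comp (algebraMap L M) = φ₂.comp (algebraMap L M) := by
    have h1 := congrArg (fun k => (Scheme.ΓSpecIso (CommRingCat.of L)).inv ≫ k.appTop) h
    simp only [Scheme.Hom.comp_appTop, ← Category.assoc] at h1
    rw [← Scheme.ΓSpecIso_inv_naturality] at h1
    have h2 := congrArg CommRingCat.Hom.hom h1
    exact h2
  -- the automorphism at `x`
  let ev : Γ(W, ⊤) →+* W.residueField x := (W.evaluation ⊤ x trivial).hom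
  obtain ⟨g, hg⟩ := exists_comp_eq (L := L) (ev.comp φ₁) (ev.comp φ₂) (by
    rw [RingHom.comp_assoc, RingHom.comp_assoc, hφ])
  obtain ⟨θ, hθ⟩ := Field.exists_primitive_element L M
  have hinj : ∀ g₁ g₂ : M ≃ₐ[L] M, g₁ θ = g₂ θ → g₁ = g₂ := by
    intro g₁ g₂ h12
    have : (g₁ : M →+* M) = (g₂ : M →+* M) := hom_ext_of_primitive (L := L) _ _ (by
      ext r
      simp) θ hθ h12
    ext m
    exact DFunLike.congr_fun this m
  let s : Γ(W, ⊤) := ∏ g' ∈ Finset.univ.erase g, (φ₂ θ - φ₁ (g' θ))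
  have hs : (φ₂ θ - φ₁ (g θ)) * s = 0 := by
    rw [← prod_eq_zero φ₁ φ₂ hφ θ]
    exact Finset.mul_prod_erase Finset.univ (fun g' => φ₂ θ - φ₁ (g' θ)) (Finset.mem_univ g)
  have hx : x ∈ W.basicOpen s := by
    refine (Scheme.evaluation_ne_zero_iff_mem_basicOpen W (U := ⊤) x trivial s).1 ?_
    change ev s ≠ 0
    rw [map_prod, Finset.prod_ne_zero_iff]
    intro g' hg'
    rw [map_sub, sub_ne_zero]
    have h1 : ev (φ₂ θ) = ev (φ₁ (g θ)) := (DFunLike.congr_fun hg θ).symm
    rw [h1]
    intro h2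
    have h3 : g θ = g' θ := (ev.comp φ₁).injective h2
    exact (Finset.ne_of_mem_erase hg') (hinj _ _ h3.symm)
  refine ⟨W.basicOpen s, hx, g, ?_⟩
  -- restriction to the basic open
  let ρ : Γ(W, ⊤) →+* Γ((W.basicOpen s : Scheme.{u}), ⊤) := (W.basicOpen s).ι.appTop.hom
  have hu : IsUnit (ρ s) := by
    have h1 := (W.toRingedSpace.isUnit_res_basicOpen s).map
      (W.presheaf.map (homOfLE (le_of_eq (by simp) : (W.basicOpen s).ι ''ᵁ ⊤ ≤ W.basicOpen s)).op).hom
    have h2 : ρ s = (W.presheaf.map (homOfLE (le_of_eq (by simp) :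
        (W.basicOpen s).ι ''ᵁ ⊤ ≤ W.basicOpen s)).op).hom
        ((W.presheaf.map (homOfLE (W.basicOpen_le s)).op).hom s) := by
      change ((W.basicOpen s).ι.appTop).hom s = _
      rw [Scheme.Opens.ι_appTop, ← CommRingCat.comp_apply, ← Functor.map_comp]
      rfl
    rw [h2]
    exact h1
  have h0 : ρ (φ₂ θ) = ρ (φ₁ (g θ)) := by
    have h1 := congrArg ρ hs
    rw [map_mul, map_zero, hu.mul_left_eq_zero, map_sub, sub_eq_zero] at h1
    exact h1
  have key : ρ.comp φ₂ = (ρ.comp φ₁).comp (g : M →+* M) := by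
    apply hom_ext_of_primitive (L := L) _ _ _ θ hθ h0
    rw [RingHom.comp_assoc, ← hφ]
    ext r
    simp
  apply ext_of_isAffine
  rw [← cancel_epi γ]
  ext m
  have h1 := DFunLike.congr_fun key m
  simp only [Scheme.Hom.comp_appTop, ← Category.assoc]
  rw [← Scheme.ΓSpecIso_inv_naturality]
  exact h1

end Geom

end Groth.Agent.Sga7.H810.GalGraph
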