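import Groth.Agent.Sga7.H810.NormFast
import Groth.Agent.Sga7.H810.Convert

/-!
# The norm of a cohomology class for a Galois covering, in terms of `EtCore.HpullVia`

`exists_norm`: `π : V ⟶ X` étale surjective, `G` a finite group acting on `V` over `X` such that two
morphisms to `V` over `X` differ locally by an element of `G`: for a sheaf `F` on `T`, `X` over `T`, and
`x ∈ H^n(V, F|_V)` the class `∑ g, g^* x` comes from `H^n(X, F|_X)`.
-/

set_option autoImplicit false
universe u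
open CategoryTheory CategoryTheory.Limits CategoryTheory.Abelian AlgebraicGeometry Opposite

namespace Groth.Agent.Sga7.H810.Norm

/-- The norm of a class comes from the base. -/
theorem exists_norm {X V T : Scheme.{u}} {G : Type*} [Group G] [Fintype G] (π : V ⟶ X) [Etale π]
    (hπ : Function.Surjective π) (a : G → (V ⟶ V))
    (ha : ∀ g h, a (g * h) = a g ≫ a h) (haπ : ∀ g, a g ≫ π = π)
    (hG : ∀ (W : Scheme.{u}) (p₁ p₂ : W ⟶ V) (_ : p₁ ≫ π = p₂ ≫ π) (x : W),
      ∃ (U : W.Opens) (_ : x ∈ U) (g : G), U.ι ≫ p₂ = U.ι ≫ p₁ ≫ a g)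
    (s : X ⟶ T) (sV : V ⟶ T) (w : π ≫ s = sV) (hs : ∀ g, a g ≫ sV = sV)
    (F : EtCoh.Ab T) (n : ℕ) (x : EtCoh.H V ((EtCoh.pull sV).obj F) n) :
    ∃ y : EtCoh.H X ((EtCoh.pull s).obj F) n,
      EtCore.HpullVia π s sV w F n y = ∑ g, EtCore.HpullVia (a g) sV sV (hs g) F n x := by
  obtain ⟨y, hy⟩ := NormFast.norm_aux π hπ a ha haπ hG s sV w hs F n x
  refine ⟨y, (Convert.HPV_eq_HpullVia π s sV w F n y).trans (hy.trans ?_)⟩
  exact Finset.sum_congr rfl fun g _ => (Convert.HPV_eq_HpullVia (a g) sV sV (hs g) F n x).symm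

end Groth.Agent.Sga7.H810.Norm
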