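import Groth.Agent.Sga7.H810.FieldH
import Groth.Agent.Sga7.H810.Norm
import Groth.Agent.Sga7.H810.GalGraph
import Groth.Agent.CurvesA.EtFieldObj

/-!
# The norm of a cohomology class for a finite Galois extension

`exists_norm`: `L' / L` finite Galois, extensions of `K`; for `x ∈ H^q(C_{L'}, F)` the class
`∑ g, g^* x`, `g ∈ Gal(L'/L)`, comes from `H^q(C_L, F)`.
-/

set_option autoImplicit false
universe u
open CategoryTheory CategoryTheory.Limits CategoryTheory.Abelian AlgebraicGeometry Opposite

namespace Groth.Agent.Sga7.H810.FieldNorm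

open Groth.Agent.EtpbcB.HRel Groth.Agent.EtpbcB.HLim Groth.Agent.Etcore.PullCoh
open FieldH

variable {K : Type u} [Field K] {C : Scheme.{u}} (f : C ⟶ Spec (CommRingCat.of K))

/-- The transition squares are cartesian. -/
theorem isPullback_bm {E E' : Type u} [CommRing E] [Algebra K E] [CommRing E'] [Algebra K E']
    (φ : E →ₐ[K] E') : IsPullback (bm f φ) (pullback.snd f (str K E')) (pullback.snd f (str K E))
      (Spec.map (CommRingCat.ofHom (φ : E →+* E'))) := by
  refine IsPullback.of_right (h₁₂ := toC f E) (v₁₃ := f) (h₂₂ := str K E) ?_ (bm_snd f φ)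
    (IsPullback.of_hasPullback f (str K E))
  rw [bm_fst, spec_comp_str]
  exact IsPullback.of_hasPullback f (str K E')

variable {L L' : Type u} [Field L] [Field L'] [Algebra K L] [Algebra K L'] [Algebra L L']
  [IsScalarTower K L L'] [FiniteDimensional L L'] [IsGalois L L']

/-- The canonical `K`-homomorphism `L → L'`. -/
noncomputable abbrev can (K L L' : Type u) [Field K] [Field L] [Field L'] [Algebra K L]
    [Algebra K L'] [Algebra L L'] [IsScalarTower K L L'] : L →ₐ[K] L' :=
  IsScalarTower.toAlgHom K L L'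

instance etale_bm : Etale (bm f (can K L L')) := by
  have := Groth.Agent.CurvesA.EtFieldObj.etale_SpecMap L L'
  exact MorphismProperty.of_isPullback (P := @Etale) (isPullback_bm f (can K L L')).flip this

omit [FiniteDimensional L L'] [IsGalois L L'] in
theorem surjective_bm : Function.Surjective (bm f (can K L L')) := by
  have h1 : Surjective (Spec.map (CommRingCat.ofHom (algebraMap L L'))) := by
    constructor
    intro x
    obtain ⟨y⟩ : Nonempty (Spec (CommRingCat.of L')) := inferInstanceAs (Nonempty (PrimeSpectrum L'))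
    exact ⟨y, Subsingleton.elim (α := PrimeSpectrum L) _ _⟩
  have h2 : Surjective (bm f (can K L L')) :=
    MorphismProperty.of_isPullback (P := @Surjective) (isPullback_bm f (can K L L')).flip h1
  exact h2.surj

/-- The automorphism of `C_{L'}`. -/
noncomputable abbrev au (g : L' ≃ₐ[L] L') : L' →ₐ[K] L' := (g.restrictScalars K).toAlgHom

theorem graph (W : Scheme.{u}) (p₁ p₂ : W ⟶ pullback f (str K L'))
    (h : p₁ ≫ bm f (can K L L') = p₂ ≫ bm f (can K L L')) (x : W) :
    ∃ (U : W.Opens) (_ : x ∈ U) (g : L' ≃ₐ[L] L'), U.ι ≫ p₂ = U.ι ≫ p₁ ≫ bm f (au (K := K) g) := by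
  have h1 : (p₁ ≫ pullback.snd f (str K L')) ≫ Spec.map (CommRingCat.ofHom (algebraMap L L')) =
      (p₂ ≫ pullback.snd f (str K L')) ≫ Spec.map (CommRingCat.ofHom (algebraMap L L')) := by
    have h2 := congrArg (fun k => k ≫ pullback.snd f (str K L)) h
    simp only [Category.assoc, bm_snd] at h2
    rw [Category.assoc, Category.assoc]
    exact h2
  obtain ⟨U, hx, g, hg⟩ := GalGraph.exists_open_graph _ _ h1 x
  refine ⟨U, hx, g, ?_⟩
  apply pullback.hom_ext
  · have h2 : p₁ ≫ toC f L' = p₂ ≫ toC f L' := by
      rw [← bm_fst f (can K L L'), ← Category.assoc, h, Category.assoc]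
    have h3 : bm f (au (K := K) g) ≫ toC f L' = toC f L' := bm_fst f _
    rw [Category.assoc, Category.assoc, Category.assoc]
    exact congrArg (fun k => U.ι ≫ k) (h2.symm.trans (congrArg (fun k => p₁ ≫ k) h3.symm))
  · rw [Category.assoc, Category.assoc, Category.assoc, bm_snd, hg, Category.assoc]
    rfl

theorem bm_au (g : L' ≃ₐ[L] L') :
    bm f (au (K := K) g) ≫ bm f (can K L L') = bm f (can K L L') := by
  rw [bm_comp]
  congr 1
  ext r
  exact g.commutes r

variable (F : EtCoh.Ab C) (q : ℕ)

/-- The norm of a class comes from the smaller field. -/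
theorem exists_norm (x : HE f F q L') :
    ∃ y : HE f F q L, hm f F q (can K L L') y = ∑ g : L' ≃ₐ[L] L', hm f F q (au (K := K) g) x :=
  Norm.exists_norm (bm f (can K L L')) (surjective_bm f)
    (fun g : L' ≃ₐ[L] L' => bm f (au (K := K) g)) (fun g h => by
      rw [bm_comp]
      rfl) (bm_au f) (graph f) (toC f L) (toC f L') (bm_fst f _) (fun g => bm_fst f _) F q x

end Groth.Agent.Sga7.H810.FieldNorm
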