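import Groth.Agent.Sga7.H810.Transfer
import Groth.Agent.Etcore.PullCoh
import Mathlib.AlgebraicGeometry.Morphisms.OpenImmersion

/-!
# The norm of a cohomology class for a Galois covering

`norm_aux`: `π : V ⟶ X` étale surjective, `G` a finite group acting on `V` over `X` such that two
morphisms to `V` over `X` differ locally by an element of `G`: for a sheaf `F` on `T`, `X` over `T`, and
`x ∈ H^n(V, F|_V)` the class `∑ g, g^* x` comes from `H^n(X, F|_X)`. (Form with `HPV`; see `Norm` for the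
form with `EtCore.HpullVia`.)
-/

set_option autoImplicit false
universe u
open CategoryTheory CategoryTheory.Limits CategoryTheory.Abelian AlgebraicGeometry Opposite

namespace Groth.Agent.Sga7.H810.NormFast

open Groth.Agent.Etcore.LocSec Groth.Agent.Etcore.ZU Groth.Agent.Etcore.ExtAdj
open Groth.Agent.Etcore.Loc Groth.Agent.Etcore.LocEt Groth.Agent.Etcore.LocMap
open Groth.Agent.Sga7.H810.Transfer

section Theta
open Groth.Agent.Etcore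

theorem theta_eq {X Y Z : Scheme.{u}} (f : X ⟶ Y) (t : Y ⟶ Z) (f₀ : X ⟶ Z) (w : f ≫ t = f₀) :
    Loc.theta f t w = PullCoh.theta f t f₀ w := rfl

theorem th_eq {X Y Z : Scheme.{u}} (f : X ⟶ Y) (t : Y ⟶ Z) (f₀ : X ⟶ Z) (w : f ≫ t = f₀)
    (G : EtCoh.Ab Z) : PullCoh.th f t f₀ w G = (PullCoh.theta f t f₀ w).hom.app G := rfl

theorem theta_assoc {X Y Z T : Scheme.{u}} (f : X ⟶ Y) (t : Y ⟶ Z) (s : Z ⟶ T)
    (ft : X ⟶ Z) (ts : Y ⟶ T) (fts : X ⟶ T) (w₁ : f ≫ t = ft) (w₂ : t ≫ s = ts)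
    (w₃ : f ≫ ts = fts) (w₄ : ft ≫ s = fts) (G : EtCoh.Ab T) :
    (EtCoh.pull f).map ((Loc.theta t s w₂).hom.app G) ≫ (Loc.theta f ts w₃).hom.app G =
      (Loc.theta f t w₁).hom.app ((EtCoh.pull s).obj G) ≫ (Loc.theta ft s w₄).hom.app G := by
  rw [theta_eq, theta_eq, theta_eq, theta_eq, ← th_eq, ← th_eq, ← th_eq, ← th_eq]
  exact Groth.Agent.Etcore.PullCoh.th_assoc f t s ft ts fts w₁ w₂ w₃ w₄ G

end Theta

section Aux

open scoped Groth.Agent.Etcore.FastInst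

theorem HP_mk₀ {X Y : Scheme.{u}} (f : X ⟶ Y) {G G' : EtCoh.Ab Y} (a : G ⟶ G') (n : ℕ)
    (x : Ext (EtCoh.const Y ℤ) G n) :
    HP f G' n (x.comp (Ext.mk₀ a) (add_zero n)) =
      (HP f G n x).comp (Ext.mk₀ ((EtCoh.pull f).map a)) (add_zero n) := by
  rw [HP, extPull_comp, Ext.mapExactFunctor_mk₀, HP]

/-- Change of the reference scheme in the relative pullback. -/
theorem HPV_change {X Y Z T : Scheme.{u}} (f : X ⟶ Y) (t : Y ⟶ Z) (s : Z ⟶ T)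
    (ft : X ⟶ Z) (ts : Y ⟶ T) (fts : X ⟶ T) (w₁ : f ≫ t = ft) (w₂ : t ≫ s = ts)
    (w₃ : f ≫ ts = fts) (w₄ : ft ≫ s = fts) (G : EtCoh.Ab T) (n : ℕ)
    (x : Ext (EtCoh.const Y ℤ) ((EtCoh.pull t).obj ((EtCoh.pull s).obj G)) n) :
    HPV f ts w₃ G n (x.comp (Ext.mk₀ ((theta t s w₂).hom.app G)) (add_zero n)) =
      (HPV f t w₁ ((EtCoh.pull s).obj G) n x).comp
        (Ext.mk₀ ((theta ft s w₄).hom.app G)) (add_zero n) := by
  rw [HPV_apply, HPV_apply, HP_mk₀, Ext.comp_assoc_of_third_deg_zero,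
    Ext.comp_assoc_of_third_deg_zero, Ext.mk₀_comp_mk₀, Ext.mk₀_comp_mk₀,
    theta_assoc f t s ft ts fts w₁ w₂ w₃ w₄]

theorem sum_comp_mk₀ {X : Scheme.{u}} {A B F : EtCoh.Ab X} {ι : Type*} (t : Finset ι) (n : ℕ)
    (x : ι → Ext A B n) (φ : B ⟶ F) :
    (∑ i ∈ t, x i).comp (Ext.mk₀ φ) (add_zero n) = ∑ i ∈ t, (x i).comp (Ext.mk₀ φ) (add_zero n) :=
  map_sum (AddMonoidHom.mk' (fun z : Ext A B n => z.comp (Ext.mk₀ φ) (add_zero n))
    (fun a b => by rw [Ext.add_comp])) x t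

theorem comp_inv_comp {X V T : Scheme.{u}} (π : V ⟶ X)  (s : X ⟶ T) (sV : V ⟶ T) (w : π ≫ s = sV)
   (F : EtCoh.Ab T) (n : ℕ) (x : Ext (EtCoh.const V ℤ) ((EtCoh.pull sV).obj F) n) :
   (x.comp (Ext.mk₀ (inv ((theta π s w).hom.app F))) (add_zero n)).comp
      (Ext.mk₀ ((theta π s w).hom.app F)) (add_zero n) = x := by
    rw [Ext.comp_assoc_of_third_deg_zero, Ext.mk₀_comp_mk₀, IsIso.inv_hom_id, Ext.comp_mk₀_id]

theorem norm_aux0 {X V : Scheme.{u}} {G : Type*} [Group G] [Fintype G] (π : V ⟶ X) [Etale π]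
    (hπ : Function.Surjective π) (a : G → (V ⟶ V))
    (ha : ∀ g h, a (g * h) = a g ≫ a h) (haπ : ∀ g, a g ≫ π = π)
    (hG : ∀ (W : Scheme.{u}) (p₁ p₂ : W ⟶ V) (_ : p₁ ≫ π = p₂ ≫ π) (x : W),
      ∃ (U : W.Opens) (_ : x ∈ U) (g : G), U.ι ≫ p₂ = U.ι ≫ p₁ ≫ a g)
    (F : EtCoh.Ab X) (n : ℕ) (x : Ext (EtCoh.const V ℤ) ((EtCoh.pull π).obj F) n) :
    ∃ y : Ext (EtCoh.const X ℤ) F n,
      HP π F n y = ∑ g, HPV (a g) π (haπ g) F n x := by
  let V' : X.Etale := Scheme.Etale.mk π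
  let a' : G → (V' ⟶ V') := fun g => MorphismProperty.Over.homMk (a g) (haπ g) trivial
  have hGr : Graph V' a' := by
    intro W p₁ p₂ x
    have w₁ : p₁.left ≫ π = W.hom := w_left p₁
    have w₂ : p₂.left ≫ π = W.hom := w_left p₂
    obtain ⟨U, hx, g, hg⟩ := hG W.left p₁.left p₂.left (w₁.trans w₂.symm) x
    have : Etale (U.ι ≫ W.hom) := inferInstance
    refine ⟨Scheme.Etale.mk (U.ι ≫ W.hom), MorphismProperty.Over.homMk U.ι rfl trivial, g, ?_, ?_⟩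
    · exact ⟨⟨x, hx⟩, rfl⟩
    · apply MorphismProperty.Over.Hom.ext
      exact hg
  exact Transfer.exists_norm V' a' (fun g h => by
    apply MorphismProperty.Over.Hom.ext
    exact ha g h) hπ hGr F n x

theorem norm_aux {X V T : Scheme.{u}} {G : Type*} [Group G] [Fintype G] (π : V ⟶ X) [Etale π]
    (hπ : Function.Surjective π) (a : G → (V ⟶ V))
    (ha : ∀ g h, a (g * h) = a g ≫ a h) (haπ : ∀ g, a g ≫ π = π)
    (hG : ∀ (W : Scheme.{u}) (p₁ p₂ : W ⟶ V) (_ : p₁ ≫ π = p₂ ≫ π) (x : W),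
      ∃ (U : W.Opens) (_ : x ∈ U) (g : G), U.ι ≫ p₂ = U.ι ≫ p₁ ≫ a g)
    (s : X ⟶ T) (sV : V ⟶ T) (w : π ≫ s = sV) (hs : ∀ g, a g ≫ sV = sV)
    (F : EtCoh.Ab T) (n : ℕ) (x : Ext (EtCoh.const V ℤ) ((EtCoh.pull sV).obj F) n) :
    ∃ y : Ext (EtCoh.const X ℤ) ((EtCoh.pull s).obj F) n,
      HPV π s w F n y = ∑ g, HPV (a g) sV (hs g) F n x := by
  obtain ⟨y, hy⟩ := norm_aux0 π hπ a ha haπ hG ((EtCoh.pull s).obj F) n
    (x.comp (Ext.mk₀ (inv ((theta π s w).hom.app F))) (add_zero n))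
  refine ⟨y, ?_⟩
  rw [HPV_apply, hy, sum_comp_mk₀]
  refine Finset.sum_congr rfl fun g _ => ?_
  rw [← HPV_change (a g) π s π sV sV (haπ g) w (hs g) w F n, comp_inv_comp]

end Aux

end Groth.Agent.Sga7.H810.NormFast
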