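import Groth.Agent.Etcore.LocMap

/-!
# Transfer along a Galois covering in étale cohomology

`V` an étale `X`-scheme with an action `a` of a finite group `G`, such that `V ⟶ X` is surjective and
two morphisms to `V` differ locally by an element of `G`.

* `exists_transfer`: a morphism `t : ℤ_X ⟶ Z_V` with `toConst V ≫ t = ∑ g, zmap (a g)`;
* `exists_norm`: for every class `x ∈ H^n(V, F|_V)` the class `∑ g, a(g)^* x` comes from `H^n(X, F)`.
-/

set_option autoImplicit false
universe u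
open CategoryTheory CategoryTheory.Limits CategoryTheory.Abelian AlgebraicGeometry Opposite

namespace Groth.Agent.Sga7.H810.Transfer

open Groth.Agent.Etcore.LocSec Groth.Agent.Etcore.ZU Groth.Agent.Etcore.ExtAdj
open Groth.Agent.Etcore.Loc Groth.Agent.Etcore.LocEt Groth.Agent.Etcore.LocMap
open scoped Groth.Agent.Etcore.FastInst

variable {X : Scheme.{u}}

theorem app_add {F G : EtCoh.Ab X} (a b : F ⟶ G) (V : X.Etale) (s : EtCoh.sect F V) :
    app (a + b) V s = app a V s + app b V s := rfl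

theorem app_sum {F G : EtCoh.Ab X} {ι : Type*} (t : Finset ι) (a : ι → (F ⟶ G)) (V : X.Etale)
    (s : EtCoh.sect F V) : app (∑ i ∈ t, a i) V s = ∑ i ∈ t, app (a i) V s :=
  map_sum (AddMonoidHom.mk' (fun k : F ⟶ G => app k V s) (fun a b => app_add a b V s)) a t

theorem mk₀_sum_comp {A B F : EtCoh.Ab X} {ι : Type*} (t : Finset ι) (a : ι → (A ⟶ B)) (n : ℕ)
    (x : Ext B F n) :
    (Ext.mk₀ (∑ i ∈ t, a i)).comp x (zero_add n) = ∑ i ∈ t, (Ext.mk₀ (a i)).comp x (zero_add n) :=
  map_sum (AddMonoidHom.mk' (fun k : A ⟶ B => (Ext.mk₀ k).comp x (zero_add n))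
    (fun a b => by rw [Ext.mk₀_add, Ext.add_comp])) a t

/-- A family of morphisms locally relating any two morphisms to `V`. -/
def Graph {G : Type*} (V : X.Etale) (a : G → (V ⟶ V)) : Prop :=
  ∀ (W : X.Etale) (p₁ p₂ : W ⟶ V) (x : W.left), ∃ (W' : X.Etale) (b : W' ⟶ W) (g : G),
    x ∈ Set.range b.left ∧ b ≫ p₂ = b ≫ p₁ ≫ a g

theorem ofArrows_le_sieve {W : X.Etale} {ι : Type*} {Z : ι → X.Etale} (b : ∀ i, Z i ⟶ W)
    (S : Sieve W) (h : ∀ i, S.arrows (b i)) : Sieve.ofArrows Z b ≤ S := by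
  rw [Sieve.ofArrows, Sieve.generate_le_iff, Presieve.ofArrows_le_iff]
  exact h

/-- Sections which agree locally are equal. -/
theorem sect_ext_of_local (F : EtCoh.Ab X) {W : X.Etale} {ι : Type u} {Z : ι → X.Etale}
    (b : ∀ i, Z i ⟶ W) (hb : ∀ x : W.left, ∃ i, x ∈ Set.range (b i).left)
    {s t : EtCoh.sect F W} (h : ∀ i, res F (b i) s = res F (b i) t) : s = t := by
  have hF := (isSheaf_iff_isSheaf_of_type _ _).1
    ((sheafCompose X.smallEtaleTopology (forget AddCommGrpCat.{u + 1})).obj F).property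
  have hcov : Sieve.ofArrows Z b ∈ X.smallEtaleTopology W := by
    rw [Scheme.ofArrows_mem_smallEtaleTopology_iff]
    refine Set.eq_univ_of_forall fun x => ?_
    obtain ⟨i, hi⟩ := hb x
    exact Set.mem_iUnion.2 ⟨i, hi⟩
  refine (hF _ hcov).isSeparatedFor.ext ?_
  rintro V f ⟨Y, g, h', ⟨i⟩, rfl⟩
  change F.obj.map _ _ = F.obj.map _ _
  rw [op_comp, F.obj.map_comp]
  exact congrArg (F.obj.map g.op) (h i)

/-- Descent of a section along a surjective `V ⟶ X`. -/
theorem exists_descent (F : EtCoh.Ab X) (V : X.Etale) (hV : Function.Surjective V.hom)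
    (s : EtCoh.sect F V) (hs : ∀ (W : X.Etale) (p₁ p₂ : W ⟶ V), res F p₁ s = res F p₂ s) :
    ∃ t : EtCoh.sect F (EtCoh.top X), res F (toTop V) t = s := by
  have hF := (isSheaf_iff_isSheaf_of_type _ _).1
    ((sheafCompose X.smallEtaleTopology (forget AddCommGrpCat.{u + 1})).obj F).property
  have hcov : Sieve.generate (Presieve.singleton (toTop V)) ∈
      X.smallEtaleTopology (EtCoh.top X) := by
    have h1 : Sieve.ofArrows (fun _ : PUnit.{1} => V) (fun _ => toTop V) ∈
        X.smallEtaleTopology (EtCoh.top X) := by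
      rw [Scheme.ofArrows_mem_smallEtaleTopology_iff]
      refine Set.eq_univ_of_forall fun x => Set.mem_iUnion.2 ⟨PUnit.unit, ?_⟩
      obtain ⟨y, hy⟩ := hV x
      refine ⟨y, ?_⟩
      have h2 : (toTop V).left ≫ (EtCoh.top X).hom = V.hom := w_left (toTop V)
      have h3 : (toTop V).left = V.hom := by
        rw [← h2]
        exact (Category.comp_id _).symm
      rw [h3]
      exact hy
    refine GrothendieckTopology.superset_covering _ ?_ h1
    exact ofArrows_le_sieve _ _ fun _ => ⟨_, 𝟙 _, toTop V, Presieve.singleton.mk, Category.id_comp _⟩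
  have h1 := hF _ hcov
  rw [← Presieve.isSheafFor_iff_generate, Presieve.isSheafFor_singleton] at h1
  exact (h1 s fun {W} p₁ p₂ _ => hs W p₁ p₂).exists

section

variable {G : Type*} [Group G] [Fintype G] (V : X.Etale) (a : G → (V ⟶ V))
  (ha : ∀ g h, a (g * h) = a g ≫ a h) (hV : Function.Surjective V.hom) (hG : Graph V a)

include ha hV hG

/-- The transfer morphism. -/
theorem exists_transfer :
    ∃ t : EtCoh.const X ℤ ⟶ ZE V, toConst V ≫ t = ∑ g, zmap (a g) := by
  let s : EtCoh.sect (ZE V) V := ∑ g, res (ZE V) (a g) (genE V)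
  have hs : ∀ (W : X.Etale) (p₁ p₂ : W ⟶ V), res (ZE V) p₁ s = res (ZE V) p₂ s := by
    intro W p₁ p₂
    choose Z b g hb hg using hG W p₁ p₂
    apply sect_ext_of_local (ZE V) (ι := W.left) b (fun x => ⟨x, hb x⟩)
    intro x
    rw [res_res, res_res, hg]
    simp only [s, map_sum, res_res]
    have h1 : ∀ g' : G, ((b x ≫ p₁ ≫ a (g x)) ≫ a g') = (b x ≫ p₁) ≫ a (g x * g') := by
      intro g'
      rw [ha]
      simp only [Category.assoc]
    simp only [h1]
    exact (Fintype.sum_equiv (Equiv.mulLeft (g x))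
      (fun g' => res (ZE V) ((b x ≫ p₁) ≫ a (g x * g')) (genE V))
      (fun g' => res (ZE V) ((b x ≫ p₁) ≫ a g') (genE V)) (fun g' => rfl)).symm
  obtain ⟨t, ht⟩ := exists_descent (ZE V) V hV s hs
  refine ⟨ofSec (isGen_one X) t, ?_⟩
  apply hext (isGen_genE V)
  rw [app_comp, app_toConst, ← res_app, app_ofSec, ht, app_sum]
  simp only [app_zmap]
  rfl

/-- The norm of a class comes from the base. -/
theorem exists_norm (F : EtCoh.Ab X) (n : ℕ)
    (x : Ext (EtCoh.const V.left ℤ) ((EtCoh.pull V.hom).obj F) n) :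
    ∃ y : Ext (EtCoh.const X ℤ) F n,
      HP V.hom F n y = ∑ g, HPV (a g).left V.hom (w_left (a g)) F n x := by
  obtain ⟨t, ht⟩ := exists_transfer V a ha hV hG
  obtain ⟨x, rfl⟩ := (locMap_bijective V F n).2 x
  refine ⟨(Ext.mk₀ t).comp x (zero_add n), ?_⟩
  rw [HP_eq_locMap]
  simp only [HPV_locMap]
  rw [← map_sum, Ext.mk₀_comp_mk₀_assoc, ht, mk₀_sum_comp]

end

end Groth.Agent.Sga7.H810.Transfer
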